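import Mathlib
import Cfsg.Agent.H32.NX9.RDef_m3
import Cfsg.Agent.H37.NX.TripNum_m3
import Cfsg.Agent.H37.NW.Red_m3
import Cfsg.Agent.H692.Rel.Simple_m3
import Cfsg.Agent.H676.DL.Prep
import Cfsg.Agent.SmallSimple.Simple168
import Cfsg.Agent.S0493
import Cfsg.Agent.FastGrp
import Cfsg.Agent.Prune
set_option linter.all false

section
prune_inst 0x7f00000000000000000000000000000000000000000000000000000000000000000000000000000000000000000000000000000000000000000000000000000000000000000000000000000000000000003fffffffffffffffffffffffffffbeffbdffffffff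

-- part: H37/NX/RData
section
set_option linter.all false
open scoped Cfsg.Agent.FastGrp

/-!
# S4979, layer (I): piece [I-r], the Sylow subgroup of `Q` for a good prime (helper37)
-/

set_option autoImplicit false
set_option linter.style.haveILetI false
set_option linter.unusedSectionVars false

open scoped Pointwise commutatorElement

namespace Cfsg.Agent.H37.NX

open MulAction Cfsg.Agent.H32.NX9

variable {p q : ℕ} {H V B : Type*} [Group H] [Finite H] [AddCommGroup V] [Finite V] [DistribMulAction H V]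
  [Finite B] [MulAction H B] {W : B → AddSubgroup V} {K N Q : Subgroup H} {φ : N →* ℂˣ}

theorem smul_mem_block (I : ImpC (V := V) p q W K N Q φ) (g : H) {i : B} {w : V} (hw : w ∈ W i) :
    g • w ∈ W (g • i) := by
  rw [← I.smulW]
  exact AddSubgroup.smul_mem_pointwise_smul w g (W i) hw

theorem smul_mem_of_Q (I : ImpC (V := V) p q W K N Q φ) {g : H} (hg : g ∈ Q) {i : B} {w : V}
    (hw : w ∈ W i) : g • w ∈ W i := by
  have h1 := smul_mem_block I g hw
  rwa [(I.memQ g).1 hg i] at h1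

theorem mem_N_of_blocks (I : ImpC (V := V) p q W K N Q φ) {g : H} (h : ∀ i, ∀ w ∈ W i, g • w = w) :
    g ∈ N := by
  rw [← I.core.ker]
  let F : AddSubgroup V :=
    { carrier := {v | g • v = v}
      add_mem' := fun {a b} ha hb => by
        change g • (a + b) = a + b
        rw [smul_add, ha, hb]
      zero_mem' := smul_zero g
      neg_mem' := fun {a} ha => by
        change g • (-a) = -a
        rw [smul_neg, ha] }
  have h1 : ⨆ i, W i ≤ F := iSup_le fun i w hw => h i w hw
  rw [I.top] at h1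
  exact fun v => h1 (AddSubgroup.mem_top v)

theorem trivial_of_N (I : ImpC (V := V) p q W K N Q φ) {g : H} (h : g ∈ N) (v : V) : g • v = v :=
  (I.core.ker g).2 h v

/-- powers of elements agreeing on a block -/
theorem pow_agree (I : ImpC (V := V) p q W K N Q φ) {x y : H} (hy : y ∈ Q) {i : B}
    (h : ∀ w ∈ W i, x • w = y • w) (n : ℕ) : ∀ w ∈ W i, x ^ n • w = y ^ n • w := by
  induction n with
  | zero => intro w _; rw [pow_zero, pow_zero]
  | succ n ih =>
    intro w hw
    rw [pow_succ', pow_succ', mul_smul, mul_smul, ih w hw]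
    exact h _ (smul_mem_of_Q I (Q.pow_mem hy n) hw)

theorem Q_normal (I : ImpC (V := V) p q W K N Q φ) : Q.Normal := by
  constructor
  intro g hg x
  rw [I.memQ]
  intro i
  rw [mul_smul, mul_smul, (I.memQ g).1 hg, smul_inv_smul]

/-- The action of `Q` on a block. -/
def blk (I : ImpC (V := V) p q W K N Q φ) (i : B) : Q →* Equiv.Perm (W i) where
  toFun g :=
    { toFun := fun w => ⟨(g : H) • (w : V), smul_mem_of_Q I g.2 w.2⟩
      invFun := fun w => ⟨(g : H)⁻¹ • (w : V), smul_mem_of_Q I (Q.inv_mem g.2) w.2⟩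
      left_inv := fun w => Subtype.ext (inv_smul_smul _ _)
      right_inv := fun w => Subtype.ext (smul_inv_smul _ _) }
  map_one' := by
    ext w
    exact one_smul _ _
  map_mul' := by
    intro a b
    ext w
    exact mul_smul _ _ _

theorem blk_apply (I : ImpC (V := V) p q W K N Q φ) (i : B) (g : Q) (w : W i) :
    (blk I i g w : V) = (g : H) • (w : V) := rfl

theorem blk_eq_iff (I : ImpC (V := V) p q W K N Q φ) {i : B} {g h : Q} :
    blk I i g = blk I i h ↔ ∀ w ∈ W i, (g : H) • w = (h : H) • w := by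
  constructor
  · intro e w hw
    exact congrArg (fun σ : Equiv.Perm (W i) => ((σ ⟨w, hw⟩ : W i) : V)) e
  · intro e
    ext w
    exact e w w.2

theorem blk_eq_one_iff (I : ImpC (V := V) p q W K N Q φ) {i : B} {g : Q} :
    blk I i g = 1 ↔ ∀ w ∈ W i, (g : H) • w = w := by
  rw [← map_one (blk I i), blk_eq_iff]
  simp only [OneMemClass.coe_one, one_smul]

theorem blk_pow_eq_one_iff (I : ImpC (V := V) p q W K N Q φ) {i : B} {g : H} (hg : g ∈ Q) (n : ℕ) :
    blk I i ⟨g, hg⟩ ^ n = 1 ↔ ∀ w ∈ W i, g ^ n • w = w := by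
  rw [← map_pow, blk_eq_one_iff]
  rfl

theorem three_le (I : ImpC (V := V) p q W K N Q φ) (i j : B) : ∃ k, k ≠ i ∧ k ≠ j := by
  classical
  haveI : Fintype B := Fintype.ofFinite B
  by_contra hcon
  push Not at hcon
  have h1 : (Finset.univ : Finset B) ⊆ {i, j} := by
    intro k _
    rw [Finset.mem_insert, Finset.mem_singleton]
    by_cases h : k = i
    · exact Or.inl h
    · exact Or.inr (hcon k h)
  have h2 := (Finset.card_le_card h1).trans Finset.card_le_two
  rw [Finset.card_univ, ← Nat.card_eq_fintype_card] at h2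
  have h3 := I.card
  have h4 := I.hp.two_le
  omega

theorem trans_blocks (I : ImpC (V := V) p q W K N Q φ) (i j : B) : ∃ h : H, h • i = j := by
  obtain ⟨k, hk, -⟩ := three_le I i i
  obtain ⟨l, hl, hlk⟩ := three_le I i k
  obtain ⟨k', hk', -⟩ := three_le I j j
  obtain ⟨l', hl', hlk'⟩ := three_le I j k'
  obtain ⟨h, hh, -⟩ := I.t3 i k l j k' l' hk.symm hl.symm hlk.symm hk'.symm hl'.symm hlk'.symm
  exact ⟨h, hh⟩

/-- conjugation -/
theorem conj_trivial (I : ImpC (V := V) p q W K N Q φ) {x h : H} {i : B}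
    (hx : ∀ w ∈ W i, x • w = w) : ∀ w ∈ W (h • i), (h * x * h⁻¹) • w = w := by
  intro w hw
  have h1 := smul_mem_block I h⁻¹ hw
  rw [inv_smul_smul] at h1
  rw [mul_smul, mul_smul, hx _ h1, smul_inv_smul]

theorem conj_pow (h x : H) (n : ℕ) : (h * x * h⁻¹) ^ n = h * x ^ n * h⁻¹ := by
  rw [← MulAut.conj_apply, ← map_pow, MulAut.conj_apply]

theorem exists_gens (I : ImpC (V := V) p q W K N Q φ) {r : ℕ} (hr : GoodPr p r W Q) :
    ∃ (a : ℕ) (t : B → H), (∀ i, t i ∈ Q) ∧ (∀ i, ∃ k : ℕ, t i ^ r ^ k = 1) ∧ 1 ≤ a ∧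
      (∀ i, ∀ x ∈ Q, (∃ k : ℕ, ∀ w ∈ W i, x ^ r ^ k • w = w) → ∃ j : ℕ, ∀ w ∈ W i, x • w = t i ^ j • w) ∧
      ∀ (i : B) (k : ℕ), (∀ w ∈ W i, t i ^ k • w = w) ↔ r ^ a ∣ k := by
  classical
  haveI : Fact r.Prime := ⟨hr.prime⟩
  choose t₀ htQ hrel hnt hgen using hr.gen
  -- the `r`-part
  have hpart : ∀ i, ∃ t ∈ Q, (∃ k : ℕ, t ^ r ^ k = 1) ∧ ∀ w ∈ W i, t • w = t₀ i • w := by
    intro i
    obtain ⟨k, hk⟩ := hrel i
    obtain ⟨c, m, hm, hcm⟩ := Nat.exists_eq_pow_mul_and_not_dvd (orderOf_pos (t₀ i)).ne' r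
      hr.prime.ne_one
    have hcop : Nat.Coprime m (r ^ k) :=
      (Nat.Coprime.pow_left k ((Nat.Prime.coprime_iff_not_dvd hr.prime).2 hm)).symm
    obtain ⟨b, hb0, hb1⟩ := Nat.chineseRemainder hcop 0 1
    obtain ⟨d, hd⟩ := (Nat.modEq_zero_iff_dvd).1 hb0
    refine ⟨t₀ i ^ b, Q.pow_mem (htQ i) b, ⟨c, ?_⟩, ?_⟩
    · rw [← pow_mul, hd, show m * d * r ^ c = (r ^ c * m) * d by ring, ← hcm, pow_mul,
        pow_orderOf_eq_one, one_pow]
    · have h1 : orderOf (blk I i ⟨t₀ i, htQ i⟩) ∣ r ^ k := by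
        rw [orderOf_dvd_iff_pow_eq_one, blk_pow_eq_one_iff]
        exact hk
      have h2 : blk I i ⟨t₀ i, htQ i⟩ ^ b = blk I i ⟨t₀ i, htQ i⟩ ^ 1 :=
        pow_eq_pow_iff_modEq.2 (hb1.of_dvd h1)
      rw [pow_one, ← map_pow, blk_eq_iff] at h2
      exact h2
  choose t htQ' htr htag using hpart
  have hgen' : ∀ i, ∀ x ∈ Q, (∃ k : ℕ, ∀ w ∈ W i, x ^ r ^ k • w = w) →
      ∃ j : ℕ, ∀ w ∈ W i, x • w = t i ^ j • w := by
    intro i x hx hk
    obtain ⟨j, hj⟩ := hgen i x hx hk
    refine ⟨j, fun w hw => ?_⟩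
    rw [hj w hw, pow_agree I (htQ i) (htag i) j w hw]
  -- the order on the block
  let o : B → ℕ := fun i => orderOf (blk I i ⟨t i, htQ' i⟩)
  have ho : ∀ i k, (∀ w ∈ W i, t i ^ k • w = w) ↔ o i ∣ k := by
    intro i k
    rw [orderOf_dvd_iff_pow_eq_one, blk_pow_eq_one_iff]
  have hdvd : ∀ i j, o i ∣ o j := by
    intro i j
    obtain ⟨h, rfl⟩ := trans_blocks I i j
    -- `h t_i h⁻¹` is a power of `t_j` on `W j`
    obtain ⟨k, hk⟩ := htr i
    obtain ⟨m, hm⟩ := hgen' (h • i) (h * t i * h⁻¹) ((Q_normal I).conj_mem _ (htQ' i) h) ⟨k, by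
      intro w _
      rw [conj_pow, hk, mul_one, mul_inv_cancel, one_smul]⟩
    rw [← ho]
    intro w hw
    have h1 : ∀ w ∈ W (h • i), (h * t i * h⁻¹) ^ o (h • i) • w = w := by
      intro w hw
      rw [pow_agree I (Q.pow_mem (htQ' _) m) hm _ w hw, ← pow_mul, mul_comm, pow_mul]
      have h2 : ∀ w ∈ W (h • i), t (h • i) ^ o (h • i) • w = w := (ho _ _).2 dvd_rfl
      have h3 := pow_agree I (y := 1) Q.one_mem (i := h • i) (x := t (h • i) ^ o (h • i)) (by
        intro w hw
        rw [h2 w hw, one_smul]) m w hw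
      rwa [one_pow, one_smul] at h3
    have h4 := h1 (h • w) (smul_mem_block I h hw)
    rw [conj_pow, mul_smul, inv_smul_smul, mul_smul] at h4
    exact smul_left_cancel h h4
  obtain ⟨i₀⟩ : Nonempty B := by
    rw [← Finite.card_pos_iff]
    have := I.card
    have := I.hp.two_le
    omega
  obtain ⟨a, ha⟩ : ∃ a, o i₀ = r ^ a := by
    obtain ⟨k, hk⟩ := htr i₀
    have h1 : o i₀ ∣ r ^ k := by
      rw [← ho]
      intro w _
      rw [hk, one_smul]
    obtain ⟨a, -, ha⟩ := (Nat.dvd_prime_pow hr.prime).1 h1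
    exact ⟨a, ha⟩
  have hoa : ∀ i, o i = r ^ a := fun i =>
    (Nat.dvd_antisymm (hdvd i i₀) (hdvd i₀ i)).trans ha
  refine ⟨a, t, htQ', htr, ?_, hgen', fun i k => by rw [ho, hoa]⟩
  by_contra h0
  have h0' : a = 0 := by omega
  obtain ⟨w, hw, hne⟩ := hnt i₀
  apply hne
  have h1 := (ho i₀ 1).2 (by rw [hoa, h0', pow_zero]) w hw
  rw [pow_one] at h1
  rw [← htag i₀ w hw, h1]

/-- [I-r] the Sylow subgroup of `Q` for a good prime -/
theorem exists_rdata (I : ImpC (V := V) p q W K N Q φ) {r : ℕ} (hr : GoodPr p r W Q) :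
    ∃ (a : ℕ) (P : Subgroup H) (t : B → H), RData r a W N Q P t := by
  classical
  haveI : Fact r.Prime := ⟨hr.prime⟩
  obtain ⟨a, t, htQ, htr, ha, hgen, hord⟩ := exists_gens I hr
  haveI hQn := Q_normal I
  have hNn : N.Normal := by
    constructor
    intro n hn g
    rw [Subgroup.mem_center_iff.1 (I.core.cen hn) g, mul_inv_cancel_right]
    exact hn
  have hcN : ∀ n ∈ N, ∀ g : H, g * n = n * g := fun n hn g =>
    Subgroup.mem_center_iff.1 (I.core.cen hn) g
  -- elements of `Q` which are `r`-elements on all blocks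
  have hpow : ∀ i, ∀ x ∈ Q, (∃ j : ℕ, ∀ w ∈ W i, x • w = t i ^ j • w) →
      ∀ w ∈ W i, x ^ r ^ a • w = w := by
    rintro i x hx ⟨j, hj⟩
    have h1 : blk I i ⟨x, hx⟩ = blk I i ⟨t i, htQ i⟩ ^ j := by
      rw [← map_pow, blk_eq_iff]
      exact hj
    rw [← blk_pow_eq_one_iff I hx, h1, ← pow_mul, mul_comm, pow_mul,
      (blk_pow_eq_one_iff I (htQ i) (r ^ a)).2 ((hord i _).2 dvd_rfl), one_pow]
  have hmemR : ∀ x (hx : x ∈ Q), (∃ k : ℕ, x ^ r ^ k ∈ N) → ∀ i, ∃ j : ℕ, blk I i ⟨x, hx⟩ =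
      blk I i ⟨t i, htQ i⟩ ^ j := by
    rintro x hx ⟨k, hk⟩ i
    obtain ⟨j, hj⟩ := hgen i x hx ⟨k, fun w _ => trivial_of_N I hk w⟩
    refine ⟨j, ?_⟩
    rw [← map_pow, blk_eq_iff]
    exact hj
  have hback : ∀ x (hx : x ∈ Q), (∀ i, ∃ j : ℕ, blk I i ⟨x, hx⟩ = blk I i ⟨t i, htQ i⟩ ^ j) →
      x ^ r ^ a ∈ N := by
    intro x hx h
    apply mem_N_of_blocks I
    intro i
    refine hpow i x hx ?_
    obtain ⟨j, hj⟩ := h i
    rw [← map_pow, blk_eq_iff] at hj
    exact ⟨j, hj⟩
  let R : Subgroup H :=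
    { carrier := {x | x ∈ Q ∧ ∃ k : ℕ, x ^ r ^ k ∈ N}
      one_mem' := ⟨Q.one_mem, 0, by rw [pow_zero, pow_one]; exact N.one_mem⟩
      mul_mem' := by
        rintro x y ⟨hx, hx'⟩ ⟨hy, hy'⟩
        refine ⟨Q.mul_mem hx hy, a, hback _ (Q.mul_mem hx hy) fun i => ?_⟩
        obtain ⟨j, hj⟩ := hmemR x hx hx' i
        obtain ⟨k, hk⟩ := hmemR y hy hy' i
        refine ⟨j + k, ?_⟩
        rw [pow_add, ← hj, ← hk, ← map_mul]
        rfl
      inv_mem' := by
        rintro x ⟨hx, k, hk⟩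
        exact ⟨Q.inv_mem hx, k, by rw [inv_pow]; exact N.inv_mem hk⟩ }
  have hRmem : ∀ x, x ∈ R ↔ x ∈ Q ∧ ∃ k : ℕ, x ^ r ^ k ∈ N := fun _ => Iff.rfl
  have hRQ : R ≤ Q := fun x hx => hx.1
  haveI hRn : R.Normal := by
    constructor
    rintro x ⟨hx, k, hk⟩ g
    exact ⟨hQn.conj_mem x hx g, k, by rw [conj_pow]; exact hNn.conj_mem _ hk g⟩
  have hcomm : ∀ x ∈ R, ∀ y ∈ R, ⁅x, y⁆ ∈ N := by
    rintro x ⟨hx, hx'⟩ y ⟨hy, hy'⟩
    apply mem_N_of_blocks I
    intro i
    obtain ⟨j, hj⟩ := hmemR x hx hx' i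
    obtain ⟨k, hk⟩ := hmemR y hy hy' i
    have h1 : blk I i ⁅(⟨x, hx⟩ : Q), ⟨y, hy⟩⁆ = 1 := by
      rw [map_commutatorElement, hj, hk, commutatorElement_eq_one_iff_mul_comm]
      exact (Commute.refl _).pow_pow j k
    rw [blk_eq_one_iff] at h1
    exact h1
  -- `R` is nilpotent
  haveI : (N.subgroupOf R).Normal := inferInstance
  have hRnil : Group.IsNilpotent R := by
    haveI : Group.IsNilpotent (R ⧸ N.subgroupOf R) := by
      letI : CommGroup (R ⧸ N.subgroupOf R) :=
        { (inferInstance : Group (R ⧸ N.subgroupOf R)) with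
          mul_comm := by
            intro x y
            obtain ⟨x, rfl⟩ := QuotientGroup.mk'_surjective _ x
            obtain ⟨y, rfl⟩ := QuotientGroup.mk'_surjective _ y
            rw [← commutatorElement_eq_one_iff_mul_comm, ← map_commutatorElement]
            exact (QuotientGroup.eq_one_iff _).2 (hcomm x x.2 y y.2) }
      exact CommGroup.isNilpotent
    refine Subgroup.isNilpotent_of_ker_le_center (QuotientGroup.mk' (N.subgroupOf R)) ?_
    rw [QuotientGroup.ker_mk']
    intro n hn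
    rw [Subgroup.mem_center_iff]
    intro g
    exact Subtype.ext (hcN n hn g)
  obtain ⟨S⟩ : Nonempty (Sylow r R) := inferInstance
  have hSn : (S : Subgroup R).Normal := by
    have h1 := (Group.isNilpotent_of_finite_tfae (G := R)).out 0 3
    exact h1.1 hRnil r ‹_› S
  haveI hSc : (S : Subgroup R).Characteristic := Sylow.characteristic_of_normal S hSn
  let P : Subgroup H := (S : Subgroup R).map R.subtype
  have hPn : P.Normal := ConjAct.normal_of_characteristic_of_normal
  have hPR : P ≤ R := Subgroup.map_subtype_le _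
  have hPg : IsPGroup r P := S.isPGroup'.map R.subtype
  have hPall : ∀ x ∈ Q, (∃ k : ℕ, x ^ r ^ k = 1) → x ∈ P := by
    rintro x hx ⟨k, hk⟩
    have hxR : x ∈ R := ⟨hx, k, by rw [hk]; exact N.one_mem⟩
    refine ⟨⟨x, hxR⟩, ?_, rfl⟩
    refine mem_sylow_of_normalizer S (k := k) (Subtype.ext hk) ?_
    rw [Subgroup.normalizer_eq_top_iff.2 hSn]
    exact Subgroup.mem_top _
  have hPpow : ∀ x ∈ P, ∃ k : ℕ, x ^ r ^ k = 1 := by
    intro x hx
    obtain ⟨k, hk⟩ := hPg ⟨x, hx⟩
    exact ⟨k, congrArg Subtype.val hk⟩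
  refine ⟨a, P, t, hr.prime, hr.odd, ha, hPn, hPR.trans hRQ, hPg, ?_, fun x hx y hy =>
    hcomm x (hPR hx) y (hPR hy), fun i => hPall _ (htQ i) (htr i), ?_, hord, ?_⟩
  · -- the index
    obtain ⟨T⟩ : Nonempty (Sylow r Q) := inferInstance
    have hTP : (T : Subgroup Q) ≤ P.subgroupOf Q := by
      intro x hx
      obtain ⟨k, hk⟩ := T.isPGroup' ⟨x, hx⟩
      refine hPall x x.2 ⟨k, ?_⟩
      have h1 : x ^ r ^ k = 1 := congrArg Subtype.val hk
      exact congrArg Subtype.val h1
    intro h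
    exact T.not_dvd_index (h.trans (Subgroup.index_dvd_of_le hTP))
  · intro i x hx
    obtain ⟨k, hk⟩ := hPpow x hx
    exact hgen i x (hRQ (hPR hx)) ⟨k, fun w _ => by rw [hk, one_smul]⟩
  · -- semiregular
    intro i x hx w hw hw0 hxw w' hw'
    by_cases hw'0 : w' = 0
    · rw [hw'0, smul_zero]
    obtain ⟨m, hmi, hmw⟩ := I.trans i w hw w' hw' hw0 hw'0
    have hxQ := hRQ (hPR hx)
    have hy : m⁻¹ * x * m ∈ P := by
      have := hPn.conj_mem x hx m⁻¹
      rwa [inv_inv] at this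
    have hyQ := hRQ (hPR hy)
    obtain ⟨j, hj⟩ := hmemR x hxQ (hPR hx).2 i
    obtain ⟨k, hk⟩ := hmemR _ hyQ (hPR hy).2 i
    set τ := blk I i ⟨t i, htQ i⟩ with hτ
    -- same orders
    have hiff : ∀ n : ℕ, blk I i ⟨x, hxQ⟩ ^ n = 1 ↔ blk I i ⟨m⁻¹ * x * m, hyQ⟩ ^ n = 1 := by
      intro n
      have hmi' : m⁻¹ • i = i := by rw [inv_smul_eq_iff, hmi]
      rw [blk_pow_eq_one_iff, blk_pow_eq_one_iff]
      constructor
      · intro h
        have h1 := conj_trivial I (h := m⁻¹) h
        rw [hmi'] at h1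
        intro w hw
        have h2 := h1 w hw
        rw [← conj_pow, inv_inv] at h2
        exact h2
      · intro h
        have h1 := conj_trivial I (h := m) h
        rw [hmi] at h1
        intro w hw
        have h2 := h1 w hw
        rw [← conj_pow] at h2
        have h3 : m * (m⁻¹ * x * m) * m⁻¹ = x := by group
        rwa [h3] at h2
    have hoeq : orderOf (τ ^ j) = orderOf (τ ^ k) := by
      rw [← hj, ← hk]
      apply Nat.dvd_antisymm
      · rw [orderOf_dvd_iff_pow_eq_one, hiff]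
        exact pow_orderOf_eq_one _
      · rw [orderOf_dvd_iff_pow_eq_one, ← hiff]
        exact pow_orderOf_eq_one _
    rw [orderOf_pow, orderOf_pow] at hoeq
    have hτ0 : 0 < orderOf τ := orderOf_pos τ
    have hg : (orderOf τ).gcd j = (orderOf τ).gcd k := by
      have h1 := Nat.mul_div_cancel' (Nat.gcd_dvd_left (orderOf τ) j)
      have h2 := Nat.mul_div_cancel' (Nat.gcd_dvd_left (orderOf τ) k)
      rw [← hoeq, ← h1] at h2
      rw [h1] at h2
      have h3 : 0 < orderOf τ / (orderOf τ).gcd j :=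
        Nat.div_pos (Nat.le_of_dvd hτ0 (Nat.gcd_dvd_left _ _)) (Nat.gcd_pos_of_pos_left j hτ0)
      apply Nat.eq_of_mul_eq_mul_right h3
      rw [h1]
      exact h2.symm
    obtain ⟨c, hc⟩ := Nat.gcd_dvd_right (orderOf τ) k
    rw [← hg] at hc
    have hz : τ ^ k = (τ ^ j) ^ (Nat.gcdB (orderOf τ) j * (c : ℤ)) := by
      have h1 := Nat.gcd_eq_gcd_ab (orderOf τ) j
      have h2 : (k : ℤ) = (orderOf τ : ℤ) * (Nat.gcdA (orderOf τ) j * c) +
          (j : ℤ) * (Nat.gcdB (orderOf τ) j * c) := by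
        have h3 : (k : ℤ) = ((orderOf τ).gcd j : ℤ) * c := by exact_mod_cast hc
        rw [h3, h1]
        ring
      rw [← zpow_natCast τ k, h2, zpow_add, zpow_mul, zpow_natCast, pow_orderOf_eq_one, one_zpow,
        one_mul, zpow_mul, zpow_natCast]
    have hy1 : (m⁻¹ * x * m) • w = w := by
      have h1 : blk I i ⟨m⁻¹ * x * m, hyQ⟩ ⟨w, hw⟩ = ⟨w, hw⟩ := by
        rw [hk, hz, ← hj]
        exact Equiv.Perm.zpow_apply_eq_self_of_apply_eq_self (Subtype.ext hxw) _
      exact congrArg Subtype.val h1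
    rw [mul_smul, mul_smul, inv_smul_eq_iff, hmw] at hy1
    exact hy1

end Cfsg.Agent.H37.NX
end

-- part: H605/NX/Blk
section
set_option linter.all false
open scoped Cfsg.Agent.FastGrp

-- part: H605/NX/HerG
section
/-!
# S4979, layer (I), the Hering step: final form (helper605)
-/

set_option autoImplicit false
set_option linter.style.haveILetI false
set_option linter.unusedSectionVars false

namespace Cfsg.Agent.H605.NX

open MulAction

universe v

/-- Hering's theorem for transitive linear groups of order prime to the characteristic `q ≥ 5`. -/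
def HerStmt : Prop :=
  ∀ (q : ℕ), q.Prime → 5 ≤ q → ∀ {V : Type v} [AddCommGroup V] [Finite V] [Nontrivial V],
    (∀ v : V, q • v = 0) → ∀ (H : Subgroup (Equiv.Perm V)),
    (∀ h ∈ H, ∀ v w : V, h (v + w) = h v + h w) →
    (∀ v w : V, v ≠ 0 → w ≠ 0 → ∃ h ∈ H, h v = w) → ¬ q ∣ Nat.card H →
    (∃ (F : Type) (_ : Field F) (_ : Fintype F) (e : V ≃+ F),
      ∀ h ∈ H, ∃ (c : F) (σ : F ≃+* F), ∀ v : V, e (h v) = c * σ (e v)) ∨
    (Nat.card V = q ^ 2 ∧ (q = 5 ∨ q = 7 ∨ q = 11 ∨ q = 23) ∧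
      ∃ N : Subgroup H, N.Normal ∧ Nonempty (N ≃* QuaternionGroup 2)) ∨
    (Nat.card V = q ^ 2 ∧ (q = 11 ∨ q = 19 ∨ q = 29 ∨ q = 59) ∧
      ∃ N : Subgroup H, N.Normal ∧ Nonempty (N ≃* Matrix.SpecialLinearGroup (Fin 2) (ZMod 5)))

theorem exists_card_eq_pow' {q : ℕ} [hq : Fact q.Prime] {V : Type*} [AddCommGroup V] [Finite V]
    [Module (ZMod q) V] : ∃ d, Nat.card V = q ^ d := by
  haveI : Module.Finite (ZMod q) V := Module.Finite.of_finite
  refine ⟨Module.finrank (ZMod q) V, ?_⟩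
  have h1 : Nat.card V = Nat.card (ZMod q) ^ Module.finrank (ZMod q) V :=
    Module.natCard_eq_pow_finrank (K := ZMod q)
  rw [h1, Nat.card_zmod]

/-- the order of an elementary abelian group is a power of the exponent -/
theorem exists_card_eq_pow {q : ℕ} [hq : Fact q.Prime] {V : Type*} [AddCommGroup V] [Finite V]
    (hexp : ∀ v : V, q • v = 0) : ∃ d, Nat.card V = q ^ d :=
  letI : Module (ZMod q) V := AddCommGroup.zmodModule hexp
  exists_card_eq_pow'

/-- The Hering step. -/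
theorem hering_step (hher : HerStmt.{v}) {p q : ℕ} [hp : Fact p.Prime] [hq : Fact q.Prime] {M : Type*}
    {W : Type v} [Group M] [Finite M] [AddCommGroup W] [Finite W] [Nontrivial W] [DistribMulAction M W]
    (hp2 : p ≠ 2) (h5 : 5 ≤ q) (hexp : ∀ w : W, q • w = 0) (hqM : ¬ q ∣ Nat.card M)
    (htr : ∀ v w : W, v ≠ 0 → w ≠ 0 → ∃ g : M, g • v = w)
    (hpW : ¬ p ∣ Nat.card W - 1) (Q : Subgroup M) [hQ : Q.Normal]
    (hcase : (IsSimpleGroup (M ⧸ Q) ∧ ¬ IsMulCommutative (M ⧸ Q) ∧
        (p = 3 ∨ (2 * p - 1 < q ∧ 14400 < Nat.card (M ⧸ Q)))) ∨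
      (p = 3 ∧ Nonempty (M ⧸ Q ≃* alternatingGroup (Fin 4)))) :
    (∀ v w : W, v ≠ 0 → w ≠ 0 → ∃ g ∈ Q, g • v = w) ∧
    (IsSimpleGroup (M ⧸ Q) → ¬ IsMulCommutative (M ⧸ Q) → ∀ g : M, ∃ h ∈ Q, ∀ w : W, g • w = h • w) ∧
    ((∃ (r a : ℕ) (C : Subgroup M) (c : M), Good W r a Q C c) ∨
      (Nat.card W = q ∧ ∃ a : ℕ, q = 2 ^ a + 1) ∨
      (q = 19 ∧ p = 7 ∧ Nat.card W = 19 ^ 2 ∧ ∃ A : Subgroup (toPermHom M W).range, A.Normal ∧
        Nonempty (A ≃* Matrix.SpecialLinearGroup (Fin 2) (ZMod 5)))) := by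
  classical
  have hpp := hp.out
  obtain ⟨d, hd⟩ := exists_card_eq_pow hexp
  -- `p = 3` excludes dimension two
  have h3 : Nat.card W = q ^ 2 → p ≠ 3 := by
    rintro h rfl
    apply hpW
    rw [h]
    have h6 : q ^ 2 - 1 = (q + 1) * (q - 1) := by
      have := Nat.sq_sub_sq q 1
      rwa [one_pow] at this
    rw [h6]
    have h7 : ¬ 3 ∣ q := fun h => by
      have := (Nat.prime_dvd_prime_iff_eq Nat.prime_three hq.out).1 h
      omega
    have h8 : q % 3 = 1 ∨ q % 3 = 2 := by omega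
    rcases h8 with h8 | h8
    · exact Dvd.dvd.mul_left (by omega) _
    · exact Dvd.dvd.mul_right (by omega) _
  have hmain : Nat.card W = q ^ 2 → (IsSimpleGroup (M ⧸ Q) ∧ ¬ IsMulCommutative (M ⧸ Q) ∧
      2 * p - 1 < q ∧ 14400 < Nat.card (M ⧸ Q)) := by
    intro h
    rcases hcase with ⟨h1, h2, h4 | ⟨h4, h5⟩⟩ | ⟨h1, -⟩
    · exact absurd h4 (h3 h)
    · exact ⟨h1, h2, h4, h5⟩
    · exact absurd h1 (h3 h)
  -- the order condition
  have hpd : ∀ m : ℕ, Nat.card W - 1 = m → ¬ p ∣ m := fun m h => h ▸ hpW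
  rcases hher q hq.out h5 hexp (toPermHom M W).range (by
      rintro _ ⟨g, rfl⟩ v w
      exact smul_add g v w) (by
      intro v w hv hw
      obtain ⟨g, hg⟩ := htr v w hv hw
      exact ⟨_, ⟨g, rfl⟩, hg⟩) (fun h => hqM (h.trans (Subgroup.card_range_dvd _))) with
    ⟨F, _, _, e, hsem⟩ | ⟨hc, hq4, A, hA, ⟨ψ⟩⟩ | ⟨hc, hq4, A, hA, ⟨ψ⟩⟩
  · -- semilinear
    have hF : Nat.card F = q ^ d := by rw [← hd, Nat.card_congr e.toEquiv]
    have h := semi_step e (M := M) (fun g => hsem _ ⟨g, rfl⟩) h5 hF Q htr (by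
      rcases hcase with ⟨h1, h2, -⟩ | ⟨rfl, h2⟩
      · exact Or.inl ⟨h1, h2⟩
      · exact Or.inr ⟨hpW, h2⟩)
    refine ⟨h.1, h.2.1, ?_⟩
    rcases h.2.2 with h1 | h1
    · exact Or.inl h1
    · exact Or.inr (Or.inl h1)
  · -- `Q8`
    obtain ⟨hs, hna, hpq, hbig⟩ := hmain hc
    have hsame := exc_same hexp hc A ψ quat_ne Q hna (lt_of_le_of_lt card_mulAut_quat_le (by omega))
    have htrQ : ∀ v w : W, v ≠ 0 → w ≠ 0 → ∃ g ∈ Q, g • v = w := by
      intro v w hv hw
      obtain ⟨g, hg⟩ := htr v w hv hw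
      obtain ⟨h, hh, hgh⟩ := hsame g
      exact ⟨h, hh, by rw [← hgh, hg]⟩
    refine ⟨htrQ, fun _ _ => hsame, Or.inl ?_⟩
    have hp3 := h3 hc
    have hp5 : 5 ≤ p := by
      have := hpp.two_le
      have h4 : p ≠ 4 := by rintro rfl; revert hpp; decide
      (clear * - hp2 hp3 this h4; omega)
    rw [hc] at hpW
    rcases hq4 with rfl | rfl | rfl | rfl
    · omega
    · omega
    · exfalso
      have h6 : p = 5 ∨ p = 6 := by omega
      rcases h6 with rfl | rfl
      · exact hpW (by norm_num)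
      · revert hpp; decide
    · have h := exc_good hexp hc A ψ quat_ne Q htrQ (r := 11) (by norm_num) (by norm_num)
        (by rw [hc]; norm_num) not_dvd_mulAut_quat
      obtain ⟨a, C, c, h⟩ := h
      exact ⟨11, a, C, c, h⟩
  · -- `SL(2,5)`
    obtain ⟨hs, hna, hpq, hbig⟩ := hmain hc
    have hsame := exc_same hexp hc A ψ tu_mul_tv Q hna (lt_of_le_of_lt card_mulAut_SL25_le (by omega))
    have htrQ : ∀ v w : W, v ≠ 0 → w ≠ 0 → ∃ g ∈ Q, g • v = w := by
      intro v w hv hw
      obtain ⟨g, hg⟩ := htr v w hv hw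
      obtain ⟨h, hh, hgh⟩ := hsame g
      exact ⟨h, hh, by rw [← hgh, hg]⟩
    refine ⟨htrQ, fun _ _ => hsame, ?_⟩
    have hp3 := h3 hc
    have hp5 : 5 ≤ p := by
      have := hpp.two_le
      have h4 : p ≠ 4 := by rintro rfl; revert hpp; decide
      (clear * - hp2 hp3 this h4; omega)
    rw [hc] at hpW
    rcases hq4 with rfl | rfl | rfl | rfl
    · exfalso
      have h6 : p = 5 ∨ p = 6 := by omega
      rcases h6 with rfl | rfl
      · exact hpW (by norm_num)
      · revert hpp; decide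
    · right; right
      have h6 : p = 5 ∨ p = 6 ∨ p = 7 ∨ p = 8 ∨ p = 9 ∨ p = 10 := by omega
      have h7 : p = 7 := by
        rcases h6 with rfl | rfl | rfl | rfl | rfl | rfl
        · exact absurd (by norm_num) hpW
        · revert hpp; decide
        · rfl
        · revert hpp; decide
        · revert hpp; decide
        · revert hpp; decide
      exact ⟨rfl, h7, hc, A, hA, ⟨ψ⟩⟩
    · left
      obtain ⟨a, C, c, h⟩ := exc_good hexp hc A ψ tu_mul_tv Q htrQ (r := 7) (by norm_num) (by norm_num)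
        (by rw [hc]; norm_num) (not_dvd_mulAut_SL25 (by norm_num) (by norm_num))
      exact ⟨7, a, C, c, h⟩
    · left
      obtain ⟨a, C, c, h⟩ := exc_good hexp hc A ψ tu_mul_tv Q htrQ (r := 29) (by norm_num) (by norm_num)
        (by rw [hc]; norm_num) (not_dvd_mulAut_SL25 (by norm_num) (by norm_num))
      exact ⟨29, a, C, c, h⟩

end Cfsg.Agent.H605.NX
end

-- part: H37/NX/BadAgl
section
/-!
# S4979, layer (I), (I6): the bad case over `AGL_3(2)` (helper37)

`K / N` is a `2`-group times `2^3`; a Sylow `7`-subgroup fixes some `θ ∈ Irr(K | φ)`, whose inertia group `T` has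
index prime to `3` and `7`; all characters over `θ` have relative degree prime to `3`, so there are at most
`|C(x)| = 3` of them (`x` of order `3` in `T / K ≤ PSL_2(7)`), and the squares of their relative degrees add up
to `|T : K|`: impossible.
-/

set_option autoImplicit false
set_option linter.style.haveILetI false
set_option linter.unusedSectionVars false

open Cfsg
open scoped Pointwise

namespace Cfsg.Agent.H37.NX

open Cfsg.Agent.H32.NX9 MulAction
open Cfsg.Agent.Characters.Core Cfsg.Agent.Characters.Clifford Cfsg.Agent.H672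
open Cfsg.Agent.H586.GW Cfsg.Agent.H37.NW
open Cfsg.Agent.H595.Triple Cfsg.Agent.H595.Central
open Cfsg.Agent.H672.RM (over_lin_iff TSet)

universe u v w

/-- The primitive group of degree `8` and order `1344` has a normal subgroup of order `8`. -/
def Big8Stmt : Prop :=
  ∀ G : Subgroup (Equiv.Perm (Fin 8)), MulAction.IsPreprimitive G (Fin 8) → Nat.card G = 1344 →
    ∃ V : Subgroup G, V.Normal ∧ Nat.card V = 8

/-- An automorphism of a group of prime order `q` has order dividing `q - 1`. -/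
theorem pow_smul_of_prime_card {H V : Type*} [Group H] [AddCommGroup V] [DistribMulAction H V] {q : ℕ}
    (hq : q.Prime) {W : AddSubgroup V} (hW : Nat.card W = q) (x : H) (hx : ∀ w ∈ W, x • w ∈ W) :
    ∀ w ∈ W, x ^ (q - 1) • w = w := by
  haveI : Fact q.Prime := ⟨hq⟩
  intro w hw
  by_cases h0 : w = 0
  · rw [h0, smul_zero]
  have h1 : (⟨w, hw⟩ : W) ≠ 0 := fun h => h0 (congrArg Subtype.val h)
  have h2 := mem_zmultiples_of_prime_card hW (g' := ⟨x • w, hx w hw⟩) h1
  obtain ⟨n, hn⟩ := AddSubgroup.mem_zmultiples_iff.1 h2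
  have hn' : x • w = n • w := (congrArg Subtype.val hn).symm
  have hq0 : (q : ℤ) • w = 0 := by
    have h3 : Nat.card W • (⟨w, hw⟩ : W) = 0 := card_nsmul_eq_zero'
    have h4 := congrArg Subtype.val h3
    rw [hW] at h4
    rw [natCast_zsmul]
    exact h4
  have hpow : ∀ k : ℕ, x ^ k • w = n ^ k • w := by
    intro k
    induction k with
    | zero => rw [pow_zero, pow_zero, one_smul, one_smul]
    | succ k ih =>
      rw [pow_succ', mul_smul, ih]
      have h5 : x • (n ^ k • w) = n ^ k • (x • w) :=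
        (DistribSMul.toAddMonoidHom V x).map_zsmul _ _
      rw [h5, hn', smul_smul, pow_succ]
  have hnd : ¬ (q : ℤ) ∣ n := by
    rintro ⟨m, rfl⟩
    apply h0
    have h6 : x • w = 0 := by
      rw [hn', mul_comm, mul_smul, hq0, smul_zero]
    exact (smul_eq_zero_iff_eq x).1 h6
  have hmod : n ^ (q - 1) ≡ 1 [ZMOD q] :=
    Int.ModEq.pow_card_sub_one_eq_one hq ((Int.isCoprime_iff_gcd_eq_one.2 (by
      rw [Int.gcd_comm]
      exact (Nat.Coprime.symm (by
        rw [Nat.coprime_comm]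
        exact (Nat.Prime.coprime_iff_not_dvd hq).2 (fun h => hnd (Int.natCast_dvd.2 h)))))))
  obtain ⟨m, hm⟩ := (Int.modEq_iff_dvd.1 hmod.symm)
  rw [hpow, show n ^ (q - 1) = 1 + m * q by rw [mul_comm m]; omega, add_smul, one_smul, mul_smul, hq0,
    smul_zero, add_zero]

section
variable {p q : ℕ} {H : Type u} {V : Type v} {B : Type w} [Group H] [Finite H] [AddCommGroup V] [Finite V]
  [DistribMulAction H V] [Finite B] [MulAction H B] {W : B → AddSubgroup V} {K N Q : Subgroup H} {φ : N →* ℂˣ}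

theorem ImpC.index_K (hB : Big8Stmt) (I : ImpC (V := V) p q W K N Q φ) (hn : Nat.card B = 8)
    (hQ : Q.index = 1344) : K.index = 168 := by
  classical
  let e : B ≃ Fin 8 := Finite.equivFinOfCardEq hn
  let Φ : H →* Equiv.Perm (Fin 8) := (e.permCongrHom).toMonoidHom.comp (MulAction.toPermHom H B)
  have hΦ : ∀ (h : H) (b : B), Φ h (e b) = e (h • b) := by
    intro h b
    change e ((MulAction.toPermHom H B h) (e.symm (e b))) = _
    rw [e.symm_apply_apply]
    rfl
  have hker : Φ.ker = Q := by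
    ext h
    rw [MonoidHom.mem_ker, I.memQ]
    constructor
    · intro h1 i
      have h2 := hΦ h i
      rw [h1] at h2
      exact (e.injective h2).symm
    · intro h1
      ext i : 1
      obtain ⟨b, rfl⟩ := e.surjective i
      rw [hΦ, h1]
      rfl
  have hG : Nat.card Φ.range = 1344 := by
    rw [← Subgroup.index_ker, hker, hQ]
  have h2 : IsMultiplyPretransitive Φ.range (Fin 8) 2 := by
    rw [is_two_pretransitive_iff]
    intro a b a' b' hab hab'
    obtain ⟨i, rfl⟩ := e.surjective a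
    obtain ⟨j, rfl⟩ := e.surjective b
    obtain ⟨i', rfl⟩ := e.surjective a'
    obtain ⟨j', rfl⟩ := e.surjective b'
    have hij : i ≠ j := fun h => hab (by rw [h])
    have hij' : i' ≠ j' := fun h => hab' (by rw [h])
    have hthird : ∀ x y : B, ∃ z : B, x ≠ z ∧ y ≠ z := by
      intro x y
      by_contra hcon
      push Not at hcon
      have h3 : (Set.univ : Set B) ⊆ {x, y} := by
        intro z _
        by_cases hz : x = z
        · exact Or.inl hz.symm
        · exact Or.inr (hcon z hz).symm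
      have h4 := Set.ncard_le_ncard h3 (Set.toFinite _)
      rw [Set.ncard_univ, hn] at h4
      have h5 := Set.ncard_insert_le x {y}
      rw [Set.ncard_singleton] at h5
      omega
    obtain ⟨k, hk1, hk2⟩ := hthird i j
    obtain ⟨k', hk1', hk2'⟩ := hthird i' j'
    obtain ⟨h, h3, h4, -⟩ := I.t3 i j k i' j' k' hij hk1 hk2 hij' hk1' hk2'
    refine ⟨⟨Φ h, h, rfl⟩, ?_, ?_⟩
    · change Φ h (e i) = e i'
      rw [hΦ, h3]
    · change Φ h (e j) = e j'
      rw [hΦ, h4]
  have hprim : IsPreprimitive Φ.range (Fin 8) := isPreprimitive_of_is_two_pretransitive h2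
  obtain ⟨V8, hVn, hV8⟩ := hB Φ.range hprim hG
  let R : Subgroup H := V8.comap Φ.rangeRestrict
  haveI : R.Normal := Subgroup.Normal.comap hVn _
  have hR : R.index = 168 := by
    have h3 : R.index = V8.index := Subgroup.index_comap_of_surjective _ Φ.rangeRestrict_surjective
    have h4 := V8.card_mul_index
    rw [hV8, hG] at h4
    omega
  have hRK : R ≤ K := I.core.maxK R inferInstance (by
    intro h
    rw [h, Subgroup.index_top] at hR
    omega)
  have hd : K.index ∣ 168 := by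
    rw [← hR]
    exact Subgroup.index_dvd_of_le hRK
  haveI := I.core.nK
  haveI := I.core.simp
  have h60 : Nat.card (H ⧸ K) ≤ 100 → Nat.card (H ⧸ K) = 60 := by
    intro h
    refine Cfsg.Agent.S0493.result ?_ h
    intro hc
    exact I.core.na hc.isMulCommutative
  change K.index ≤ 100 → K.index = 60 at h60
  have h5 : K.index ≤ 168 := Nat.le_of_dvd (by norm_num) hd
  have h6 : 100 < K.index := by
    by_contra hcon
    have h7 := h60 (by omega)
    rw [h7] at hd
    omega
  obtain ⟨c, hc⟩ := hd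
  have : c = 1 := by
    rcases Nat.lt_or_ge c 2 with h7 | h7
    · interval_cases c
      · omega
      · rfl
    · nlinarith only [h6, hc]
  rw [this] at hc
  omega

theorem ImpC.pow_mem_N (I : ImpC (V := V) p q W K N Q φ) (hb : ∀ i, Nat.card (W i) = q) {x : H}
    (hx : x ∈ Q) : x ^ (q - 1) ∈ N := by
  rw [← I.core.ker]
  intro v
  have hv : v ∈ ⨆ i, W i := by rw [I.top]; trivial
  refine AddSubgroup.iSup_induction W (C := fun v => x ^ (q - 1) • v = v) hv ?_ ?_ ?_
  · intro i w hw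
    refine pow_smul_of_prime_card I.hq (hb i) x ?_ w hw
    intro w hw
    have h1 := I.smulW x i
    rw [(I.memQ x).1 hx i] at h1
    rw [← h1]
    exact AddSubgroup.smul_mem_pointwise_smul w x (W i) hw
  · exact smul_zero _
  · intro a b ha hb
    rw [smul_add, ha, hb]

theorem ImpC.not_dvd_relIndex (hB : Big8Stmt) (I : ImpC (V := V) p q W K N Q φ) (hb : Bad q W)
    (hn : Nat.card B = 8) (hQ : Q.index = 1344) : ¬ 7 ∣ N.relIndex K := by
  have hK := ImpC.index_K hB I hn hQ
  have hQN : N ≤ Q := by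
    intro n hn
    rw [I.memQ]
    intro i
    by_contra hcon
    -- `n` acts trivially on `V`
    have h1 := I.smulW n i
    have h2 : n • W i = W i := by
      ext w
      rw [AddSubgroup.mem_smul_pointwise_iff_exists]
      constructor
      · rintro ⟨s, hs, rfl⟩
        rw [(I.core.ker n).2 hn s]
        exact hs
      · intro hw
        exact ⟨w, hw, (I.core.ker n).2 hn w⟩
    rw [h2] at h1
    have h3 : Disjoint (W i) (W (n • i)) := I.ind.pairwiseDisjoint (Ne.symm hcon)
    rw [← h1, disjoint_self] at h3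
    have h4 := hb.1 i
    rw [h3, AddSubgroup.card_bot] at h4
    exact I.hq.one_lt.ne h4
  have h1 : Q.relIndex K = 8 := by
    have h2 := Subgroup.relIndex_mul_index I.QK
    rw [hK, hQ] at h2
    omega
  have h2 : ¬ 7 ∣ N.relIndex Q := by
    intro hd
    haveI : N.Normal := center_normal N I.core.cen
    haveI : Fact (Nat.Prime 7) := ⟨by norm_num⟩
    obtain ⟨x, hx⟩ := exists_prime_orderOf_dvd_card' (G := Q ⧸ N.subgroupOf Q) 7 hd
    obtain ⟨y, rfl⟩ := QuotientGroup.mk_surjective x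
    obtain ⟨a, ha, -⟩ := hb.2
    have h3 : (y : H) ^ (q - 1) ∈ N := ImpC.pow_mem_N I hb.1 y.2
    have h4 : ((y : Q) : Q ⧸ N.subgroupOf Q) ^ (2 ^ a) = 1 := by
      rw [← QuotientGroup.mk_pow, QuotientGroup.eq_one_iff, Subgroup.mem_subgroupOf]
      rw [ha, Nat.add_sub_cancel] at h3
      exact h3
    have h5 := orderOf_dvd_of_pow_eq_one h4
    rw [hx] at h5
    have h6 := (by norm_num : Nat.Prime 7).dvd_of_dvd_pow h5
    omega
  rw [← Subgroup.relIndex_mul_relIndex N Q K hQN I.QK, h1]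
  intro h
  rcases (by norm_num : Nat.Prime 7).dvd_mul.1 h with h | h
  · exact h2 h
  · omega

/-- (P2) at the zero vector. -/
theorem Core2.rel_zero (C : Core2 (V := V) p q K N φ) : RelP p N.subtype (lf φ) := by
  intro χ hχ hov hd
  rw [charDegree_lf, mul_one] at hd
  have hcen : ∀ n : N, N.subtype n ∈ Subgroup.center H := fun n => C.cen n.2
  rw [over_lin_iff N.subtype hcen hχ] at hov
  have hsur : Function.Surjective (stabilizer H (0 : V)).subtype := by
    intro h
    exact ⟨⟨h, by rw [mem_stabilizer_iff, smul_zero]⟩, rfl⟩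
  refine C.P2 0 (χ ∘ (stabilizer H (0 : V)).subtype) (isIrr_comp _ hsur hχ) ?_ ?_
  · intro n hn hn'
    exact hov ⟨n, hn⟩
  · have h2 : charDegree (χ ∘ (stabilizer H (0 : V)).subtype) = charDegree χ := by
      rw [Blocks.Basic.charDegree_def, Blocks.Basic.charDegree_def, Function.comp, map_one]
    rwa [h2]

/-- (I6): the bad case is impossible over `AGL_3(2)`. -/
theorem ImpC.bad_false_agl (hB : Big8Stmt) (I : ImpC (V := V) p q W K N Q φ) (hb : Bad q W) (hp3 : p = 3)
    (hn : Nat.card B = 8) (hQ : Q.index = 1344) : False := by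
  classical
  subst hp3
  have hK := ImpC.index_K hB I hn hQ
  have h7K := ImpC.not_dvd_relIndex hB I hb hn hQ
  have C := I.core
  haveI : Fact (Nat.Prime 3) := ⟨by norm_num⟩
  haveI : Fact (Nat.Prime 7) := ⟨by norm_num⟩
  haveI := C.nK
  haveI := C.simp
  haveI : N.Normal := center_normal N C.cen
  have hrel := C.rel_zero
  obtain ⟨S7⟩ : Nonempty (Sylow 7 H) := inferInstance
  obtain ⟨θ, hθ, hov, hS7⟩ := H676.DL.exists_inv_over (p := 7) N K C.NK (isIrr_lf φ)
    (inertia_central C.cen _) h7K (S7 : Subgroup H) S7.isPGroup'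
  have hrelK := relP_up N hrel (isIrr_lf φ) K C.NK hθ hov
  set T := inertia K θ with hT
  have hKT : K ≤ T := le_inertia (isIrr_isClassFunction hθ)
  have h3T : ¬ 3 ∣ T.index := hrelK.not_dvd_index K hθ
  have h7T : ¬ 7 ∣ T.index := fun h => S7.not_dvd_index (h.trans (Subgroup.index_dvd_of_le hS7))
  have hmul : K.relIndex T * T.index = 168 := by rw [Subgroup.relIndex_mul_index hKT, hK]
  have h21 : 21 ∣ K.relIndex T := by
    have h1 : 3 ∣ K.relIndex T * T.index := by rw [hmul]; norm_num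
    have h2 : 7 ∣ K.relIndex T * T.index := by rw [hmul]; norm_num
    have h3 := ((by norm_num : Nat.Prime 3).dvd_mul.1 h1).resolve_right h3T
    have h4 := ((by norm_num : Nat.Prime 7).dvd_mul.1 h2).resolve_right h7T
    exact Nat.Coprime.mul_dvd_of_dvd_of_dvd (by norm_num) h3 h4
  have hrT := relP_subgroupOf K T hKT (hrelK.inertia K hθ T hT hKT)
  obtain ⟨Δ, X, i1, i2, i3, π, m, Z, l, hπ, hm, hc, hZc, h1, -⟩ :=
    exists_triple' (p := 3) (K.subgroupOf T) (H676.DL.isIrr_sub K T hKT hθ)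
      (H676.DL.inertia_sub K hKT (θ := θ) (T := T) le_rfl)
  have hrX := h1 hrT
  -- the map to `H / K`
  let g : Δ →* H ⧸ K := ((QuotientGroup.mk' K).comp T.subtype).comp π
  have hg : g.ker = Z.comap m := by
    rw [← hc]
    ext x
    rw [MonoidHom.mem_ker, Subgroup.mem_comap, Subgroup.mem_subgroupOf]
    exact QuotientGroup.eq_one_iff _
  have hmg : m.ker ≤ g.ker := by
    rw [hg]
    intro x hx
    rw [Subgroup.mem_comap, MonoidHom.mem_ker.1 hx]
    exact one_mem _
  let τ : X →* H ⧸ K := m.liftOfSurjective hm ⟨g, hmg⟩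
  have hτ : ∀ x, τ (m x) = g x := fun x =>
    MonoidHom.liftOfRightInverse_comp_apply m _ (Function.rightInverse_surjInv hm) ⟨g, hmg⟩ x
  have hτk : τ.ker = Z := by
    ext x
    obtain ⟨y, rfl⟩ := hm x
    rw [MonoidHom.mem_ker, hτ, ← MonoidHom.mem_ker, hg, Subgroup.mem_comap]
  have hcard : Nat.card τ.range = K.relIndex T := by
    rw [← Subgroup.index_ker, hτk, ← Subgroup.index_comap_of_surjective Z hm, ← hc,
      Subgroup.index_comap_of_surjective _ hπ]
    rfl
  have hS : Nat.card (H ⧸ K) = 168 := hK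
  refine no_triple (σ := τ.rangeRestrict) τ.rangeRestrict_surjective
    (Z := Z) ((MonoidHom.ker_rangeRestrict τ).trans hτk) hZc l ?_ ?_ ?_ ?_
  · intro χ hχ hov hd
    have h2 := hrX χ hχ ((Cfsg.Agent.H692.Rel.ov_iff_over hZc l hχ).1 hov)
    rw [charDegree_lf, mul_one] at h2
    exact h2 hd
  · rw [hcard]; exact h21
  · rw [hcard, ← hmul]; exact dvd_mul_right _ _
  · intro y hy
    have h2 : orderOf (y : H ⧸ K) = 3 := by rw [Subgroup.orderOf_coe, hy]
    rw [← Cfsg.Agent.SmallSimple.Simple168.card_centralizer_three hS (y : H ⧸ K) h2]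
    refine Nat.card_le_card_of_injective
      (fun x => ⟨((x : τ.range) : H ⧸ K), ?_⟩) ?_
    · rw [Subgroup.mem_centralizer_singleton_iff]
      have := Subgroup.mem_centralizer_singleton_iff.1 x.2
      exact congrArg Subtype.val this
    · intro a b hab
      have h3 : ((a : τ.range) : H ⧸ K) = (b : τ.range) :=
        congrArg (fun z : Subgroup.centralizer ({(y : H ⧸ K)} : Set (H ⧸ K)) => (z : H ⧸ K)) hab
      exact Subtype.ext (Subtype.ext h3)

end

end Cfsg.Agent.H37.NX
end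

-- part: H605/NX/Blk
section
/-!
# S4979, layer (I): the block stabilizer (helper605)
-/

set_option autoImplicit false
set_option linter.style.haveILetI false
set_option linter.unusedSectionVars false
set_option linter.unusedFintypeInType false
set_option linter.unusedDecidableInType false

open scoped Pointwise

namespace Cfsg.Agent.H605.NX

open MulAction Cfsg.Agent.H32.NX9 Cfsg.Agent.H37.NX

section alt
variable {H B : Type*} [Group H] [MulAction H B]

theorem restr_aux (i : B) (m : stabilizer H i) (b : B) :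
    (MulAction.toPerm (m : H) : Equiv.Perm B) b ≠ i ↔ b ≠ i := by
  have hm : (m : H) • i = i := m.2
  constructor
  · intro h h'
    apply h
    show (m : H) • b = i
    rw [h', hm]
  · intro h h'
    apply h
    have h2 : (m : H) • b = (m : H) • i := by rw [hm]; exact h'
    exact MulAction.injective _ h2

/-- the stabilizer of `i` acting on the other points -/
def restr (i : B) : stabilizer H i →* Equiv.Perm {b : B // b ≠ i} where
  toFun m := (MulAction.toPerm (m : H) : Equiv.Perm B).subtypePerm (restr_aux i m)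
  map_one' := by
    ext b
    exact one_smul _ _
  map_mul' := by
    intro a b
    ext c
    exact mul_smul _ _ _

theorem restr_apply (i : B) (m : stabilizer H i) (b : {b : B // b ≠ i}) :
    ((restr i m b : {b : B // b ≠ i}) : B) = (m : H) • (b : B) := rfl

theorem restr_ker {Q : Subgroup H} (hQ : ∀ g : H, g ∈ Q ↔ ∀ i : B, g • i = i) (i : B) :
    (restr i).ker = Q.subgroupOf (stabilizer H i) := by
  ext m
  rw [MonoidHom.mem_ker, Subgroup.mem_subgroupOf, hQ]
  constructor
  · intro h b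
    by_cases hb : b = i
    · rw [hb]; exact m.2
    · exact congrArg (fun σ : Equiv.Perm {b : B // b ≠ i} => ((σ ⟨b, hb⟩ : {b : B // b ≠ i}) : B)) h
  · intro h
    ext b
    exact h b

theorem restr_range [Fintype B] [DecidableEq B]
    (hA : ∀ σ : Equiv.Perm B, Equiv.Perm.sign σ = 1 ↔ ∃ h : H, ∀ b, h • b = σ b) (i : B) :
    (restr (H := H) i).range = alternatingGroup {b : B // b ≠ i} := by
  ext σ
  rw [Equiv.Perm.mem_alternatingGroup, MonoidHom.mem_range]
  constructor
  · rintro ⟨m, rfl⟩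
    have h1 : Equiv.Perm.sign (restr i m) = Equiv.Perm.sign (MulAction.toPerm (m : H) : Equiv.Perm B) := by
      refine Equiv.Perm.sign_subtypePerm _ (restr_aux i m) ?_
      intro x hx hxi
      apply hx
      rw [hxi]
      exact m.2
    rw [h1]
    exact (hA _).2 ⟨m, fun b => rfl⟩
  · intro hσ
    obtain ⟨h, hh⟩ := (hA (Equiv.Perm.ofSubtype σ)).1 (by rw [Equiv.Perm.sign_ofSubtype]; exact hσ)
    have hi : h • i = i := by
      rw [hh]
      exact Equiv.Perm.ofSubtype_apply_of_not_mem σ (by simp)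
    refine ⟨⟨h, hi⟩, ?_⟩
    ext b
    rw [restr_apply]
    show h • (b : B) = σ b
    rw [hh]
    exact Equiv.Perm.ofSubtype_apply_coe σ b

theorem alt_quot [Fintype B] [DecidableEq B]
    (hA : ∀ σ : Equiv.Perm B, Equiv.Perm.sign σ = 1 ↔ ∃ h : H, ∀ b, h • b = σ b) {Q : Subgroup H}
    (hQ : ∀ g : H, g ∈ Q ↔ ∀ i : B, g • i = i) (i : B) [hn : (Q.subgroupOf (stabilizer H i)).Normal] :
    Nonempty ((stabilizer H i) ⧸ (Q.subgroupOf (stabilizer H i)) ≃* alternatingGroup {b : B // b ≠ i}) := by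
  have h1 := restr_ker hQ i
  have h2 := restr_range hA i
  exact ⟨(QuotientGroup.quotientMulEquivOfEq h1.symm).trans
    ((QuotientGroup.quotientKerEquivRange _).trans (MulEquiv.subgroupCongr h2))⟩

end alt

end Cfsg.Agent.H605.NX
end
end
end
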